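/-
The universal property of closed immersions of locally ringed spaces.
-/
import Groth.Prelude.Def_W4stkremschemesLRS
import Mathlib

set_option autoImplicit false
set_option linter.style.haveILetI false
set_option backward.isDefEq.respectTransparency false
set_option backward.isDefEq.respectTransparency.types false

universe u

open CategoryTheory TopologicalSpace Opposite AlgebraicGeometry

noncomputable section

namespace Groth.Agent.LRSImmLib

variable {Z X Y : LocallyRingedSpace.{u}}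

/-- Sections of the structure sheaf. -/
abbrev sec (X : LocallyRingedSpace.{u}) (U : Opens X.toTopCat) : CommRingCat.{u} := X.presheaf.obj (op U)

/-- Restriction of sections. -/
abbrev rs (X : LocallyRingedSpace.{u}) {U V : Opens X.toTopCat} (h : V ≤ U) : sec X U ⟶ sec X V :=
  X.presheaf.map (homOfLE h).op

/-- The preimage of an open. -/
abbrev pre (f : Y ⟶ X) (U : Opens X.toTopCat) : Opens Y.toTopCat := (Opens.map f.base).obj U

theorem rs_rs {U V W : Opens X.toTopCat} (h : V ≤ U) (h' : W ≤ V) (s : sec X U) :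
    rs X h' (rs X h s) = rs X (h'.trans h) s := by
  rw [← CommRingCat.comp_apply, ← Functor.map_comp]
  rfl

theorem rs_self {U : Opens X.toTopCat} (h : U ≤ U) (s : sec X U) : rs X h s = s := by
  rw [show rs X h = 𝟙 _ from X.presheaf.map_id _]
  rfl

theorem eq_of_cover {ι : Type*} {W : ι → Opens X.toTopCat} {V : Opens X.toTopCat} (hle : ∀ k, W k ≤ V)
    (hcov : V ≤ iSup W) (s t : sec X V) (h : ∀ k, rs X (hle k) s = rs X (hle k) t) : s = t :=
  TopCat.Sheaf.eq_of_locally_eq' X.sheaf W V (fun k => homOfLE (hle k)) hcov s t h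

/-- There is a single section over an open without points. -/
theorem subsingleton_of_empty {U : Opens X.toTopCat} (h : ∀ x, x ∉ U) : Subsingleton (sec X U) :=
  ⟨fun s t => eq_of_cover (ι := PEmpty.{u + 1}) (W := PEmpty.elim) (fun k => k.elim) (fun x hx => (h x hx).elim) s t
    fun k => k.elim⟩

theorem app_rs (f : Y ⟶ X) {U V : Opens X.toTopCat} (h : V ≤ U) (s : sec X U) :
    f.c.app (op V) (rs X h s) = rs Y (fun _ hy => h hy) (f.c.app (op U) s) :=
  ConcreteCategory.congr_hom (f.c.naturality (homOfLE h).op) s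

variable (i : Z ⟶ X) (hi : LRSImm.IsClosedImmersion i) (f : Y ⟶ X)

/-- The sections killed by `i` are killed by `f`. -/
def Kills : Prop :=
  ∀ (U : Opens X.toTopCat) (s : sec X U), i.c.app (op U) s = 0 → f.c.app (op U) s = 0

variable {i f}

include hi in
theorem range_subset (hk : Kills i f) (y : Y.toTopCat) : f.base y ∈ Set.range i.base := by
  by_contra h
  let U : Opens X.toTopCat := ⟨(Set.range i.base)ᶜ, hi.1.isClosed_range.isOpen_compl⟩
  have hy : y ∈ pre f U := h
  haveI : Subsingleton (sec Z (pre i U)) := subsingleton_of_empty fun z hz => hz ⟨z, rfl⟩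
  have h1 := congrArg (Y.presheaf.germ (pre f U) y hy) (hk U 1 (Subsingleton.elim (α := sec Z (pre i U)) _ _))
  rw [map_one, map_one, map_zero] at h1
  exact one_ne_zero h1

theorem app_of_comp {g : Y ⟶ Z} (e : g ≫ i = f) (U : Opens X.toTopCat) (s : sec X U) :
    f.c.app (op U) s = rs Y (show pre f U ≤ pre g (pre i U) by subst e; exact le_rfl) (g.c.app (op (pre i U)) (i.c.app (op U) s)) := by
  subst e
  exact (rs_self (X := Y) (U := pre (g ≫ i) U) le_rfl _).symm

theorem kills_of_comp {g : Y ⟶ Z} (e : g ≫ i = f) : Kills i f := fun U s hs => by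
  rw [app_of_comp e U s, hs, map_zero, map_zero]

variable (hk : Kills i f)

/-- The continuous map underlying the lift. -/
def liftBase : Y.toTopCat ⟶ Z.toTopCat :=
  TopCat.ofHom ⟨fun y => (range_subset hi hk y).choose, by
    rw [hi.1.isInducing.continuous_iff]
    convert! f.base.hom.continuous using 1
    exact funext fun y => (range_subset hi hk y).choose_spec⟩

theorem base_liftBase (y : Y.toTopCat) : i.base (liftBase hi hk y) = f.base y :=
  (range_subset hi hk y).choose_spec

theorem pre_le {W : Opens Z.toTopCat} {U : Opens X.toTopCat} (h : pre i U ≤ W) :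
    pre f U ≤ (Opens.map (liftBase hi hk)).obj W := fun y hy =>
  h (show i.base (liftBase hi hk y) ∈ U by rw [base_liftBase]; exact hy)

include hi in
theorem exists_rep {W : Opens Z.toTopCat} (t : sec Z W) (z : Z.toTopCat) (hz : z ∈ W) :
    ∃ (U : Opens X.toTopCat) (s : sec X U) (hU : pre i U ≤ W), i.base z ∈ U ∧ i.c.app (op U) s = rs Z hU t := by
  obtain ⟨W', hW', hWW'⟩ := hi.1.isInducing.isOpen_iff.1 W.2
  let Wo : Opens X.toTopCat := ⟨W', hW'⟩
  obtain rfl : pre i Wo = W := Opens.ext hWW'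
  obtain ⟨U, h, ⟨s, hs⟩, hxU⟩ := (TopCat.Presheaf.isLocallySurjective_iff _).1 hi.2.1 Wo t (i.base z) hz
  exact ⟨U, s, fun _ hx => h hx, hxU, hs⟩

include hk in
theorem compat {U U' : Opens X.toTopCat} (s : sec X U) (s' : sec X U') {V : Opens X.toTopCat} (h : V ≤ U) (h' : V ≤ U')
    (e : rs Z (fun _ hx => h hx : pre i V ≤ pre i U) (i.c.app (op U) s) =
      rs Z (fun _ hx => h' hx : pre i V ≤ pre i U') (i.c.app (op U') s')) :
    rs Y (fun _ hy => h hy : pre f V ≤ pre f U) (f.c.app (op U) s) =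
      rs Y (fun _ hy => h' hy : pre f V ≤ pre f U') (f.c.app (op U') s') := by
  have h0 := hk V (rs X h s - rs X h' s') (by rw [map_sub, app_rs i, app_rs i, e, sub_self])
  rw [map_sub, app_rs f, app_rs f, sub_eq_zero] at h0
  exact h0

/-- `t'` is the pullback of the section `t`. -/
def Rel {W : Opens Z.toTopCat} (t : sec Z W) (t' : sec Y ((Opens.map (liftBase hi hk)).obj W)) : Prop :=
  ∀ (U : Opens X.toTopCat) (s : sec X U) (hU : pre i U ≤ W), i.c.app (op U) s = rs Z hU t →
    rs Y (pre_le hi hk hU) t' = f.c.app (op U) s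

theorem rel_of_rep {W : Opens Z.toTopCat} {t : sec Z W} {t' : sec Y ((Opens.map (liftBase hi hk)).obj W)}
    (h : ∀ z ∈ W, ∃ (U : Opens X.toTopCat) (s : sec X U) (hU : pre i U ≤ W), i.base z ∈ U ∧
      i.c.app (op U) s = rs Z hU t ∧ rs Y (pre_le hi hk hU) t' = f.c.app (op U) s) : Rel hi hk t t' := by
  intro V r hV er
  choose U s hU hzU es et using h
  refine eq_of_cover (ι := {z : Z.toTopCat // z ∈ W}) (W := fun k => pre f (V ⊓ U k.1 k.2)) (fun k y hy => hy.1)
    (fun y hy => Opens.mem_iSup.2 ⟨⟨liftBase hi hk y, pre_le hi hk hV hy⟩, hy, ?_⟩) _ _ fun k => ?_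
  · have := hzU (liftBase hi hk y) (pre_le hi hk hV hy)
    rw [base_liftBase] at this
    exact this
  refine Eq.trans ?_ (compat hk (s k.1 k.2) r (V := V ⊓ U k.1 k.2) inf_le_right inf_le_left ?_)
  · rw [← et k.1 k.2, rs_rs, rs_rs]
  · rw [er, es k.1 k.2, rs_rs, rs_rs]

theorem rel_unique {W : Opens Z.toTopCat} {t : sec Z W} {t₁ t₂ : sec Y ((Opens.map (liftBase hi hk)).obj W)}
    (h₁ : Rel hi hk t t₁) (h₂ : Rel hi hk t t₂) : t₁ = t₂ := by
  choose U s hU hzU es using fun k : {z : Z.toTopCat // z ∈ W} => exists_rep hi t k.1 k.2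
  refine eq_of_cover (W := fun k => pre f (U k)) (fun k => pre_le hi hk (hU k))
    (fun y hy => Opens.mem_iSup.2 ⟨⟨liftBase hi hk y, hy⟩, ?_⟩) _ _ fun k =>
      (h₁ _ _ (hU k) (es k)).trans (h₂ _ _ (hU k) (es k)).symm
  have := hzU ⟨liftBase hi hk y, hy⟩
  rw [base_liftBase] at this
  exact this

theorem exists_rel {W : Opens Z.toTopCat} (t : sec Z W) : ∃ t', Rel hi hk t t' := by
  choose U s hU hzU es using fun k : {z : Z.toTopCat // z ∈ W} => exists_rep hi t k.1 k.2
  obtain ⟨t', ht', -⟩ := TopCat.Sheaf.existsUnique_gluing' Y.sheaf (fun k => pre f (U k))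
    ((Opens.map (liftBase hi hk)).obj W) (fun k => homOfLE (pre_le hi hk (hU k)))
    (fun y hy => Opens.mem_iSup.2 ⟨⟨liftBase hi hk y, hy⟩, by
      have := hzU ⟨liftBase hi hk y, hy⟩
      rw [base_liftBase] at this
      exact this⟩)
    (fun k => f.c.app (op (U k)) (s k)) (fun k l => by
      refine compat hk (s k) (s l) (V := U k ⊓ U l) inf_le_left inf_le_right ?_
      rw [es k, es l, rs_rs, rs_rs])
  exact ⟨t', rel_of_rep hi hk fun z hz => ⟨U ⟨z, hz⟩, s ⟨z, hz⟩, hU ⟨z, hz⟩, hzU ⟨z, hz⟩, es ⟨z, hz⟩, ht' ⟨z, hz⟩⟩⟩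

/-- The sections map of the lift. -/
def liftApp (W : Opens Z.toTopCat) (t : sec Z W) : sec Y ((Opens.map (liftBase hi hk)).obj W) :=
  (exists_rel hi hk t).choose

theorem liftApp_rel {W : Opens Z.toTopCat} (t : sec Z W) : Rel hi hk t (liftApp hi hk W t) :=
  (exists_rel hi hk t).choose_spec

theorem liftApp_res {W W' : Opens Z.toTopCat} (h : W' ≤ W) (t : sec Z W) :
    liftApp hi hk W' (rs Z h t) = rs Y (fun _ hy => h hy) (liftApp hi hk W t) := by
  refine rel_unique hi hk (liftApp_rel hi hk _) fun U s hU e => ?_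
  rw [rs_rs]
  exact liftApp_rel hi hk t U s (hU.trans h) (by rw [e, rs_rs])

include hi in
theorem exists_common {W : Opens Z.toTopCat} (t₁ t₂ : sec Z W) (z : Z.toTopCat) (hz : z ∈ W) :
    ∃ (U : Opens X.toTopCat) (s₁ s₂ : sec X U) (hU : pre i U ≤ W), i.base z ∈ U ∧
      i.c.app (op U) s₁ = rs Z hU t₁ ∧ i.c.app (op U) s₂ = rs Z hU t₂ := by
  obtain ⟨U₁, s₁, hU₁, hz₁, e₁⟩ := exists_rep hi t₁ z hz
  obtain ⟨U₂, s₂, hU₂, hz₂, e₂⟩ := exists_rep hi t₂ z hz
  refine ⟨U₁ ⊓ U₂, rs X inf_le_left s₁, rs X inf_le_right s₂, fun x hx => hU₁ hx.1, ⟨hz₁, hz₂⟩, ?_, ?_⟩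
  · rw [app_rs, e₁, rs_rs]
  · rw [app_rs, e₂, rs_rs]

/-- The ring map on sections of the lift. -/
def liftHom (W : Opens Z.toTopCat) : sec Z W →+* sec Y ((Opens.map (liftBase hi hk)).obj W) where
  toFun := liftApp hi hk W
  map_one' := rel_unique hi hk (liftApp_rel hi hk _) <| rel_of_rep hi hk fun z hz => by
    obtain ⟨U, s, -, hU, hzU, -, -⟩ := exists_common hi (1 : sec Z W) 1 z hz
    exact ⟨U, 1, hU, hzU, by rw [map_one, map_one], by rw [map_one, map_one]⟩
  map_zero' := rel_unique hi hk (liftApp_rel hi hk _) <| rel_of_rep hi hk fun z hz => by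
    obtain ⟨U, s, -, hU, hzU, -, -⟩ := exists_common hi (1 : sec Z W) 1 z hz
    exact ⟨U, 0, hU, hzU, by rw [map_zero, map_zero], by rw [map_zero, map_zero]⟩
  map_add' t₁ t₂ := rel_unique hi hk (liftApp_rel hi hk _) <| rel_of_rep hi hk fun z hz => by
    obtain ⟨U, s₁, s₂, hU, hzU, e₁, e₂⟩ := exists_common hi t₁ t₂ z hz
    exact ⟨U, s₁ + s₂, hU, hzU, by rw [map_add, map_add, e₁, e₂], by
      rw [map_add, map_add, liftApp_rel hi hk t₁ U s₁ hU e₁, liftApp_rel hi hk t₂ U s₂ hU e₂]⟩
  map_mul' t₁ t₂ := rel_unique hi hk (liftApp_rel hi hk _) <| rel_of_rep hi hk fun z hz => by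
    obtain ⟨U, s₁, s₂, hU, hzU, e₁, e₂⟩ := exists_common hi t₁ t₂ z hz
    exact ⟨U, s₁ * s₂, hU, hzU, by rw [map_mul, map_mul, e₁, e₂], by
      rw [map_mul, map_mul, liftApp_rel hi hk t₁ U s₁ hU e₁, liftApp_rel hi hk t₂ U s₂ hU e₂]⟩

/-- The lift as a morphism of presheafed spaces. -/
def liftPre : Y.toPresheafedSpace.Hom Z.toPresheafedSpace where
  base := liftBase hi hk
  c :=
    { app := fun W => CommRingCat.ofHom (liftHom hi hk W.unop)
      naturality := fun W W' h => by
        ext t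
        exact liftApp_res hi hk h.unop.le t }

theorem isUnit_germ_congr {U : Opens X.toTopCat} (s : sec X U) {x x' : X.toTopCat} (e : x = x') (hx : x ∈ U) (hx' : x' ∈ U)
    (h : IsUnit (X.presheaf.germ U x hx s)) : IsUnit (X.presheaf.germ U x' hx' s) := by
  subst e; exact h

/-- A morphism killing the kernel of a closed immersion factors through it. -/
def lift : Y ⟶ Z :=
  ⟨liftPre hi hk, fun y => ⟨fun a ha => by
    obtain ⟨W, hyW, t, rfl⟩ := Z.presheaf.exists_germ_eq a
    obtain ⟨U, s, hU, hzU, es⟩ := exists_rep hi t (liftBase hi hk y) hyW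
    have hy : y ∈ pre f U := by
      show f.base y ∈ U
      rw [← base_liftBase hi hk y]; exact hzU
    have h1 : (liftPre hi hk).stalkMap y (Z.presheaf.germ W _ hyW t) = f.stalkMap y (X.presheaf.germ U _ hy s) := by
      rw [show (f.stalkMap y) (X.presheaf.germ U _ hy s) = Y.presheaf.germ (pre f U) y hy (f.c.app (op U) s) from
          PresheafedSpace.stalkMap_germ_apply f.toHom U y hy s,
        ← liftApp_rel hi hk t U s hU es, PresheafedSpace.stalkMap_germ_apply]
      exact (Y.presheaf.germ_res_apply _ y hy _).symm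
    have h2 : IsUnit (X.presheaf.germ U (f.base y) hy s) := by
      refine IsUnit.of_map (f.stalkMap y).hom _ ?_
      rw [← show _ = (f.stalkMap y) _ from h1]
      exact ha
    have h3 := (isUnit_germ_congr s (base_liftBase hi hk y).symm hy hzU h2).map (i.stalkMap (liftBase hi hk y)).hom
    rw [show (i.stalkMap _).hom (X.presheaf.germ U _ hzU s) = Z.presheaf.germ (pre i U) _ hzU (i.c.app (op U) s) from
      PresheafedSpace.stalkMap_germ_apply i.toHom U _ hzU s, es, Z.presheaf.germ_res_apply] at h3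
    exact h3⟩⟩

theorem lift_app (W : Opens Z.toTopCat) (t : sec Z W) : (lift hi hk).c.app (op W) t = liftApp hi hk W t := rfl

theorem hom_ext' {f g : Y ⟶ X} (w : f.base = g.base)
    (h : ∀ (U : Opens X.toTopCat) (s : sec X U), rs Y (show pre g U ≤ pre f U by intro y hy; show f.base y ∈ U; rw [w]; exact hy)
      (f.c.app (op U) s) = g.c.app (op U) s) : f = g := by
  apply LocallyRingedSpace.Hom.ext'
  refine PresheafedSpace.ext _ _ w ?_
  ext U s
  refine Eq.trans ?_ (h U s)
  simp only [NatTrans.comp_app, Functor.whiskerRight_app, eqToHom_app, CommRingCat.comp_apply]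
  exact congrArg (fun e => (Y.presheaf.map e) (f.c.app (op U) s)) (Subsingleton.elim _ _)

theorem lift_comp : lift hi hk ≫ i = f := by
  refine hom_ext' (by ext y; exact base_liftBase hi hk y) fun U s => ?_
  exact liftApp_rel hi hk (i.c.app (op U) s) U s le_rfl (rs_self _ _).symm

theorem eq_lift {g : Y ⟶ Z} (e : g ≫ i = f) : g = lift hi hk := by
  have hb : g.base = liftBase hi hk := by
    ext y
    apply hi.1.injective
    exact (congr($(congrArg (fun m : Y ⟶ X => m.base) e) y)).trans (base_liftBase hi hk y).symm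
  refine hom_ext' hb fun W t => ?_
  refine rel_unique hi hk (fun U s hU es => ?_) (liftApp_rel hi hk t)
  have := app_of_comp e U s
  rw [es, app_rs, rs_rs] at this
  exact (rs_rs _ _ _).trans this.symm

include hi in
theorem hom_unique {g g' : Y ⟶ Z} (e : g ≫ i = f) (e' : g' ≫ i = f) : g = g' :=
  (eq_lift hi (kills_of_comp e) e).trans (eq_lift hi (kills_of_comp e) e').symm

end Groth.Agent.LRSImmLib
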