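/-
Closed subspaces of schemes are schemes.
-/
import Groth.Agent.LRSImmLib.Lift

set_option autoImplicit false
set_option linter.style.haveILetI false
set_option backward.isDefEq.respectTransparency false
set_option backward.isDefEq.respectTransparency.types false

universe u

open CategoryTheory TopologicalSpace Opposite AlgebraicGeometry

noncomputable section

namespace Groth.Agent.LRSImmLib

theorem Scheme.germ_congr_span {X : Scheme.{u}} {U : X.Opens} {J : Ideal Γ(X, U)} {ι : Type u} {s : ι → Γ(X, U)}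
    (hJ : J = Ideal.span (Set.range s)) (x : X) (hx : x ∈ U) {a : Γ(X, U)} (ha : a ∈ J) :
    X.presheaf.germ U x hx a ∈ Ideal.span (Set.range fun j => X.presheaf.germ U x hx (s j)) := by
  subst hJ
  have := Ideal.mem_map_of_mem (X.presheaf.germ U x hx).hom ha
  rw [Ideal.map_span, ← Set.range_comp] at this
  exact this

variable {X : Scheme.{u}} {U : X.Opens} (hU : IsAffineOpen U) (J : Ideal Γ(X, U))

/-- The closed subscheme of an affine open given by an ideal, mapped into the scheme. -/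
abbrev quotMap : Spec (CommRingCat.of (Γ(X, U) ⧸ J)) ⟶ X :=
  Spec.map (CommRingCat.ofHom (Ideal.Quotient.mk J)) ≫ hU.fromSpec

theorem quotMap_mem (q : ↥(Spec (CommRingCat.of (Γ(X, U) ⧸ J)))) : quotMap hU J q ∈ U := by
  rw [Scheme.Hom.comp_apply]
  exact (hU.range_fromSpec).le ⟨_, rfl⟩

theorem quotMap_appLE (a : Γ(X, U)) (e : ⊤ ≤ quotMap hU J ⁻¹ᵁ U) :
    (quotMap hU J).appLE U ⊤ e a = (Scheme.ΓSpecIso (CommRingCat.of (Γ(X, U) ⧸ J))).inv (Ideal.Quotient.mk J a) := by
  have h1 : (quotMap hU J).appLE U ⊤ e = CommRingCat.ofHom (Ideal.Quotient.mk J) ≫ (Scheme.ΓSpecIso _).inv := by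
    rw [← Scheme.Hom.appLE_comp_appLE (Spec.map _) hU.fromSpec U ⊤ ⊤ hU.fromSpec_preimage_self.ge le_top,
      Scheme.Hom.appLE, hU.fromSpec_app_self, Category.assoc, Category.assoc, ← Functor.map_comp_assoc]
    rw [show ((eqToHom hU.fromSpec_preimage_self).op ≫ (homOfLE hU.fromSpec_preimage_self.ge).op) = 𝟙 _ from
      Subsingleton.elim _ _, CategoryTheory.Functor.map_id, Category.id_comp]
    exact (congrArg _ (Scheme.Hom.app_eq_appLE _).symm).trans (Scheme.ΓSpecIso_inv_naturality _).symm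
  rw [h1]
  rfl

theorem quotMap_germ (q : ↥(Spec (CommRingCat.of (Γ(X, U) ⧸ J)))) (a : Γ(X, U)) :
    (quotMap hU J).stalkMap q (X.presheaf.germ U _ (quotMap_mem hU J q) a) =
      (Spec (CommRingCat.of (Γ(X, U) ⧸ J))).presheaf.germ ⊤ q trivial
        ((Scheme.ΓSpecIso (CommRingCat.of (Γ(X, U) ⧸ J))).inv (Ideal.Quotient.mk J a)) := by
  rw [Scheme.Hom.germ_stalkMap_apply, ← quotMap_appLE hU J a fun p _ => quotMap_mem hU J p, Scheme.Hom.appLE,
    CommRingCat.comp_apply]
  exact ((Spec (CommRingCat.of (Γ(X, U) ⧸ J))).presheaf.germ_res_apply _ q (show q ∈ (⊤ : TopologicalSpace.Opens _) from trivial) _).symm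

theorem quotMap_kills {ι : Type u} {s : ι → Γ(X, U)} (hJ : J = Ideal.span (Set.range s))
    (q : ↥(Spec (CommRingCat.of (Γ(X, U) ⧸ J)))) {c : X.presheaf.stalk (quotMap hU J q)}
    (hc : c ∈ Ideal.span (Set.range fun j => X.presheaf.germ U _ (quotMap_mem hU J q) (s j))) :
    (quotMap hU J).stalkMap q c = 0 := by
  suffices Ideal.span (Set.range fun j => X.presheaf.germ U _ (quotMap_mem hU J q) (s j)) ≤
      RingHom.ker ((quotMap hU J).stalkMap q).hom from this hc
  rw [Ideal.span_le]
  rintro _ ⟨j, rfl⟩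
  show (quotMap hU J).stalkMap q (X.presheaf.germ U _ (quotMap_mem hU J q) (s j)) = 0
  rw [quotMap_germ, Ideal.Quotient.eq_zero_iff_mem.2 (hJ ▸ Ideal.subset_span ⟨j, rfl⟩), map_zero, map_zero]

theorem quotMap_ker {ι : Type u} {s : ι → Γ(X, U)} (hJ : J = Ideal.span (Set.range s))
    (q : ↥(Spec (CommRingCat.of (Γ(X, U) ⧸ J)))) {c : X.presheaf.stalk (quotMap hU J q)}
    (hc : (quotMap hU J).stalkMap q c = 0) :
    c ∈ Ideal.span (Set.range fun j => X.presheaf.germ U _ (quotMap_mem hU J q) (s j)) := by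
  haveI := hU.isLocalization_stalk ⟨quotMap hU J q, quotMap_mem hU J q⟩
  letI := X.presheaf.algebra_section_stalk (U := U) ⟨quotMap hU J q, quotMap_mem hU J q⟩
  obtain ⟨a, b, rfl⟩ := IsLocalization.exists_mk'_eq (hU.primeIdealOf ⟨quotMap hU J q, quotMap_mem hU J q⟩).asIdeal.primeCompl c
  rw [IsLocalization.mk'_eq_mul_mk'_one]
  refine Ideal.mul_mem_right _ _ ?_
  show X.presheaf.germ U _ (quotMap_mem hU J q) a ∈ _
  have ha : (quotMap hU J).stalkMap q (X.presheaf.germ U _ (quotMap_mem hU J q) a) = 0 := by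
    have h0 := congrArg ((quotMap hU J).stalkMap q) (IsLocalization.mk'_spec (X.presheaf.stalk (quotMap hU J q)) a b)
    rw [map_mul, hc, zero_mul] at h0
    exact h0.symm
  let A := CommRingCat.of (Γ(X, U) ⧸ J)
  rw [quotMap_germ] at ha
  obtain ⟨W, hqW, i₁, i₂, hres⟩ := TopCat.Presheaf.germ_eq (Spec A).presheaf q (show q ∈ (⊤ : (Spec A).Opens) from trivial) (show q ∈ (⊤ : (Spec A).Opens) from trivial) _ 0
    (ha.trans (map_zero _).symm)
  rw [map_zero] at hres
  obtain ⟨t, htW, hqt⟩ := (isAffineOpen_top (Spec A)).exists_basicOpen_le (V := W) ⟨q, hqW⟩ trivial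
  haveI := (isAffineOpen_top (Spec A)).isLocalization_basicOpen t
  have h0 : algebraMap Γ(Spec A, ⊤) Γ(Spec A, (Spec A).basicOpen t) ((Scheme.ΓSpecIso A).inv (Ideal.Quotient.mk J a)) = 0 := by
    show (Spec A).presheaf.map (homOfLE ((Spec A).basicOpen_le t)).op _ = 0
    rw [Subsingleton.elim (homOfLE ((Spec A).basicOpen_le t)) (homOfLE htW ≫ i₁), op_comp, Functor.map_comp,
      CommRingCat.comp_apply, hres, map_zero]
  obtain ⟨⟨_, n, rfl⟩, hn⟩ := (IsLocalization.map_eq_zero_iff (Submonoid.powers t) _ _).1 h0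
  obtain ⟨t', ht'⟩ := Ideal.Quotient.mk_surjective (show (Γ(X, U) ⧸ J) from (Scheme.ΓSpecIso A).hom t)
  have hmem : t' ^ n * a ∈ J := by
    rw [← Ideal.Quotient.eq_zero_iff_mem, map_mul, map_pow, ht']
    have h1 := congrArg (Scheme.ΓSpecIso A).hom hn
    rw [map_mul, map_pow, map_zero, Iso.inv_hom_id_apply] at h1
    exact h1
  have hu : IsUnit (X.presheaf.germ U _ (quotMap_mem hU J q) t') := by
    refine IsUnit.of_map ((quotMap hU J).stalkMap q).hom _ ?_
    show IsUnit ((quotMap hU J).stalkMap q (X.presheaf.germ U _ (quotMap_mem hU J q) t'))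
    rw [quotMap_germ, ht', Iso.hom_inv_id_apply]
    exact ((Spec A).mem_basicOpen t q trivial).1 hqt
  have h2 := Scheme.germ_congr_span hJ _ (quotMap_mem hU J q) hmem
  rw [map_mul, map_pow] at h2
  exact (Ideal.unit_mul_mem_iff_mem _ (hu.pow n)).1 h2

variable {Z : LocallyRingedSpace.{u}} {i : Z ⟶ X.toLocallyRingedSpace} (hi : LRSImm.IsClosedImmersion i)

theorem eq_zero_of_ker (z : Z.toTopCat) {c : X.presheaf.stalk (i.base z)}
    (hc : ((TopCat.Presheaf.stalkFunctor CommRingCat (i.base z)).map i.c).hom c = 0) : i.stalkMap z c = 0 := by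
  show (TopCat.Presheaf.stalkPushforward CommRingCat i.base Z.presheaf z) (((TopCat.Presheaf.stalkFunctor CommRingCat (i.base z)).map i.c) c) = 0
  rw [show ((TopCat.Presheaf.stalkFunctor CommRingCat (i.base z)).map i.c) c = 0 from hc, map_zero]

include hi in
theorem ker_of_eq_zero (z : Z.toTopCat) {c : X.presheaf.stalk (i.base z)} (hc : i.stalkMap z c = 0) :
    c ∈ RingHom.ker ((TopCat.Presheaf.stalkFunctor CommRingCat (i.base z)).map i.c).hom := by
  haveI := TopCat.Presheaf.stalkPushforward.stalkPushforward_iso_of_isInducing CommRingCat hi.1.isInducing Z.presheaf z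
  apply (ConcreteCategory.bijective_of_isIso (TopCat.Presheaf.stalkPushforward CommRingCat i.base Z.presheaf z)).1
  rw [map_zero]
  exact hc

include hi in
theorem stalkMap_surjective (z : Z.toTopCat) : Function.Surjective (i.stalkMap z) := by
  haveI := TopCat.Presheaf.stalkPushforward.stalkPushforward_iso_of_isInducing CommRingCat hi.1.isInducing Z.presheaf z
  exact (ConcreteCategory.bijective_of_isIso (TopCat.Presheaf.stalkPushforward CommRingCat i.base Z.presheaf z)).2.comp
    ((TopCat.Presheaf.locally_surjective_iff_surjective_on_stalks (T := i.c)).1 hi.2.1 (i.base z))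

include hi in
/-- Every point of a closed subspace of a scheme has an affine neighbourhood. -/
theorem exists_chart (z : Z.toTopCat) : ∃ (R : CommRingCat.{u}) (a : Spec.toLocallyRingedSpace.obj (op R) ⟶ Z),
    (z ∈ Set.range a.base :) ∧ LocallyRingedSpace.IsOpenImmersion a := by
  obtain ⟨U₀, hzU₀, ι, s₀, hs₀, hspan₀⟩ := hi.2.2 (i.base z)
  obtain ⟨_, ⟨U, hU, rfl⟩, hzU, hle⟩ := X.isBasis_affineOpens.exists_subset_of_mem_open hzU₀ U₀.2
  let s : ι → Γ(X, U) := fun j => X.presheaf.map (homOfLE hle).op (s₀ j)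
  let J : Ideal Γ(X, U) := Ideal.span (Set.range s)
  have hspan : ∀ (x : X) (hx : x ∈ U), Ideal.span (Set.range fun j => X.presheaf.germ U x hx (s j)) =
      RingHom.ker ((TopCat.Presheaf.stalkFunctor CommRingCat x).map i.c).hom := fun x hx => by
    refine Eq.trans ?_ (hspan₀ x (hle hx))
    congr 1
    exact congrArg Set.range (funext fun j => X.presheaf.germ_res_apply _ x hx (s₀ j))
  let h := quotMap hU J
  have hk : Kills i h.toLRSHom := fun V r hr => by
    refine eq_of_cover (X := (Spec (CommRingCat.of (Γ(X, U) ⧸ J))).toLocallyRingedSpace) (ι := PUnit.{u + 1})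
      (W := fun _ => pre h.toLRSHom V) (fun _ => le_rfl) (fun x hx => Opens.mem_iSup.2 ⟨PUnit.unit, hx⟩) _ _ fun _ => ?_
    congr 1
    refine TopCat.Presheaf.section_ext (Spec (CommRingCat.of (Γ(X, U) ⧸ J))).sheaf _ _ _ fun q hq => ?_
    refine Eq.trans ?_ (map_zero ((Spec (CommRingCat.of (Γ(X, U) ⧸ J))).presheaf.germ _ q hq).hom).symm
    refine (Scheme.Hom.germ_stalkMap_apply h V q hq r).symm.trans (quotMap_kills hU J rfl q ?_)
    rw [hspan _ (quotMap_mem hU J q), RingHom.mem_ker]
    refine (TopCat.Presheaf.stalkFunctor_map_germ_apply V (h q) hq i.c r).trans ?_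
    erw [hr]
    exact map_zero _
  let a := lift hi hk
  have ha : a ≫ i = h.toLRSHom := lift_comp hi hk
  have hbase : ∀ q, i.base (a.base q) = h q := fun q => base_liftBase hi hk q
  haveI : IsPreimmersion h := inferInstance
  have hinj : Topology.IsEmbedding a.base := by
    refine Topology.IsEmbedding.of_comp (a.base).hom.continuous i.base.hom.continuous ?_
    rw [show (i.base : Z.toTopCat → _) ∘ a.base = h from funext hbase]
    exact h.isEmbedding
  have hrange : Set.range a.base = (pre i U : Set Z.toTopCat) := by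
    refine Set.Subset.antisymm ?_ fun w hw => ?_
    · rintro _ ⟨q, rfl⟩
      show i.base (a.base q) ∈ U
      rw [hbase]
      exact quotMap_mem hU J q
    · have hp : J ≤ (hU.primeIdealOf ⟨i.base w, hw⟩).asIdeal := by
        rw [Ideal.span_le]
        rintro _ ⟨j, rfl⟩
        by_contra hj
        haveI := hU.isLocalization_stalk ⟨i.base w, hw⟩
        letI := X.presheaf.algebra_section_stalk (U := U) ⟨i.base w, hw⟩
        have hu : IsUnit (X.presheaf.germ U _ hw (s j)) :=
          IsLocalization.map_units (M := (hU.primeIdealOf ⟨i.base w, hw⟩).asIdeal.primeCompl) _ ⟨s j, hj⟩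
        have h0 : X.presheaf.germ U _ hw (s j) ∈ RingHom.ker ((TopCat.Presheaf.stalkFunctor CommRingCat (i.base w)).map i.c).hom :=
          hspan _ hw ▸ Ideal.subset_span ⟨j, rfl⟩
        have hu' := hu.map (i.stalkMap w).hom
        rw [show (i.stalkMap w).hom _ = 0 from eq_zero_of_ker w h0] at hu'
        exact not_isUnit_zero hu'
      obtain ⟨q, hq⟩ : hU.primeIdealOf ⟨i.base w, hw⟩ ∈ Set.range (PrimeSpectrum.comap (Ideal.Quotient.mk J)) := by
        rw [range_comap_of_surjective _ _ Ideal.Quotient.mk_surjective, Ideal.mk_ker]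
        exact hp
      refine ⟨q, hi.1.injective ?_⟩
      rw [hbase]
      show hU.fromSpec (Spec.map (CommRingCat.ofHom (Ideal.Quotient.mk J)) q) = i.base w
      rw [show Spec.map (CommRingCat.ofHom (Ideal.Quotient.mk J)) q = hU.primeIdealOf ⟨i.base w, hw⟩ from hq,
        hU.fromSpec_primeIdealOf]
  refine ⟨CommRingCat.of (Γ(X, U) ⧸ J), a, hrange.ge hzU, ?_⟩
  have hopen : Topology.IsOpenEmbedding a.base := ⟨hinj, hrange ▸ (pre i U).2⟩
  haveI : ∀ q, IsIso (a.stalkMap q) := fun q => by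
    rw [ConcreteCategory.isIso_iff_bijective]
    have hcomp : ∀ c, a.stalkMap q (i.stalkMap (a.base q) c) = (a ≫ i).stalkMap q c := fun c =>
      (congr($(LocallyRingedSpace.stalkMap_comp a i q) c)).symm
    have key : ∀ (m : Spec.toLocallyRingedSpace.obj (op (CommRingCat.of (Γ(X, U) ⧸ J))) ⟶ X.toLocallyRingedSpace),
        m = h.toLRSHom → Function.Surjective (m.stalkMap q) ∧
          ∀ (hm : m.base q ∈ U) c, m.stalkMap q c = 0 → c ∈ Ideal.span (Set.range fun j => X.presheaf.germ U _ hm (s j)) := by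
      rintro _ rfl
      exact ⟨h.stalkMap_surjective q, fun _ c hc => quotMap_ker hU J rfl q hc⟩
    obtain ⟨k1, k2⟩ := key (a ≫ i) ha
    refine ⟨(injective_iff_map_eq_zero _).2 fun b hb => ?_, fun y => ?_⟩
    · obtain ⟨c, rfl⟩ := stalkMap_surjective hi (a.base q) b
      have hm : i.base (a.base q) ∈ U := by rw [hbase]; exact quotMap_mem hU J q
      have hc := k2 hm c ((hcomp c).symm.trans hb)
      exact eq_zero_of_ker _ ((hspan _ hm).le hc)
    · obtain ⟨c, rfl⟩ := k1 y
      exact ⟨i.stalkMap (a.base q) c, hcomp c⟩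
  exact LocallyRingedSpace.IsOpenImmersion.of_stalk_iso a hopen

include hi in
/-- A closed subspace of a scheme is a scheme, embedded as a closed subscheme. -/
theorem exists_scheme : ∃ (Z' : Scheme.{u}) (e : Z'.toLocallyRingedSpace ≅ Z),
    AlgebraicGeometry.IsClosedImmersion (Scheme.Hom.mk (e.hom ≫ i) : Z' ⟶ X) := by
  let Z' : Scheme.{u} := LocallyRingedSpace.IsOpenImmersion.scheme Z (exists_chart hi)
  let i' : Z' ⟶ X := Scheme.Hom.mk i
  haveI : SurjectiveOnStalks i' := ⟨fun z => stalkMap_surjective hi z⟩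
  haveI : IsPreimmersion i' := { isEmbedding := hi.1.isEmbedding }
  refine ⟨Z', Iso.refl _, ?_⟩
  show IsClosedImmersion (Scheme.Hom.mk (𝟙 Z ≫ i) : Z' ⟶ X)
  rw [show (Scheme.Hom.mk (𝟙 Z ≫ i) : Z' ⟶ X) = i' from congrArg Scheme.Hom.mk (Category.id_comp i)]
  exact IsClosedImmersion.of_isPreimmersion i' hi.1.isClosed_range

end Groth.Agent.LRSImmLib
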